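import Mathlib

/-!
# Groups generated by a quadratic pair with split product

If `H` is generated by `a`, `b` acting quadratically and the `p'`-part of the order of `ab`
divides `q - 1`, then each nonzero module has an invariant subspace of dimension at most two on
which `H` acts with determinant one.  Hence, if every map of `H` to `SL(2, K)` has a `p`-group as
image, the image of `H` in the module is a `p`-group.
-/

open Module Polynomial

universe u v w

namespace CfsgLib.QuadraticPair

variable {K : Type u} [Field K] {p : ℕ} [Fact p.Prime] [CharP K p] {H : Type v} [Group H]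

variable {W : Type w} [AddCommGroup W] [Module K W]

lemma pow_prime_eq_one {T : Module.End K W} (hT : (T - 1) * (T - 1) = 0) : T ^ p = 1 := by
  rcases subsingleton_or_nontrivial (Module.End K W) with _ | _
  · exact Subsingleton.elim _ _
  have hchar : CharP (Module.End K W) p :=
    charP_of_injective_algebraMap (algebraMap K (Module.End K W)).injective p
  have h0 : (T - 1) ^ p = 0 :=
    pow_eq_zero_of_le (Fact.out (p := p.Prime)).two_le (by rw [pow_two, hT])
  rw [sub_pow_char_of_commute (p := p) (Commute.one_right T), one_pow, sub_eq_zero] at h0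
  exact h0

include p in
lemma det_eq_one [FiniteDimensional K W] (ρ : Representation K H W) {a b : H}
    (hgen : Subgroup.closure {a, b} = ⊤) (ha : (ρ a - 1) * (ρ a - 1) = 0)
    (hb : (ρ b - 1) * (ρ b - 1) = 0) (g : H) : LinearMap.det (ρ g) = 1 := by
  have key : ∀ c : H, (ρ c - 1) * (ρ c - 1) = 0 → LinearMap.det (ρ c) = 1 := fun c hc => by
    have h := congrArg LinearMap.det (pow_prime_eq_one (p := p) hc)
    rw [map_pow, map_one] at h
    exact frobenius_inj K p (by simpa [frobenius_def] using h)
  let d : H →* Kˣ := (LinearMap.det.comp ρ).toHomUnits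
  have hd : (⊤ : Subgroup H) ≤ d.ker := by
    rw [← hgen, Subgroup.closure_le]
    rintro c (rfl | rfl)
    · exact Units.ext (key _ ha)
    · exact Units.ext (key _ hb)
  exact congrArg Units.val (hd (Subgroup.mem_top g))

lemma exists_eigen [Fintype K] [FiniteDimensional K W] [Nontrivial W] (T : Module.End K W)
    {e k : ℕ} (hT : T ^ (p ^ e * k) = 1) (hk : k ∣ Fintype.card K - 1) :
    ∃ (l : K) (u : W), u ≠ 0 ∧ l ≠ 0 ∧ T u = l • u := by
  classical
  have hchar : CharP (Module.End K W) p :=
    charP_of_injective_algebraMap (algebraMap K (Module.End K W)).injective p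
  obtain ⟨c, hc⟩ := hk
  set m := Fintype.card K - 1 with hm
  have hm0 : m ≠ 0 := by have := Fintype.one_lt_card (α := K); omega
  have hT' : (T ^ m - 1) ^ (p ^ e) = 0 := by
    rw [sub_pow_char_pow_of_commute (p := p) (n := e) (Commute.one_right _), one_pow, ← pow_mul, hc,
      show k * c * p ^ e = p ^ e * k * c by ring, pow_mul, hT, one_pow, sub_self]
  obtain ⟨l, hl⟩ : ∃ l, (minpoly K T).IsRoot l := by
    have hdvd : minpoly K T ∣ (X ^ m - 1) ^ (p ^ e) := minpoly.dvd K T (by simp [hT'])
    have hXsplit : (X ^ m - 1 : K[X]).Splits := by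
      have h : (X ^ Fintype.card K - X : K[X]).Splits := splits_iff_card_roots.mpr (by
        rw [FiniteField.roots_X_pow_card_sub_X,
          FiniteField.X_pow_card_sub_X_natDegree_eq K Fintype.one_lt_card]
        rfl)
      have hq : (X ^ Fintype.card K - X : K[X]) = X * (X ^ m - 1) := by
        rw [mul_sub, mul_one, ← pow_succ', Nat.sub_add_cancel Fintype.card_pos]
      rw [hq] at h
      exact h.of_dvd (mul_ne_zero X_ne_zero (X_pow_sub_C_ne_zero (Nat.pos_of_ne_zero hm0) 1))
        (dvd_mul_left _ _)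
    have hs : (minpoly K T).Splits := (hXsplit.pow _).of_dvd
      (pow_ne_zero _ (X_pow_sub_C_ne_zero (Nat.pos_of_ne_zero hm0) 1)) hdvd
    exact hs.exists_eval_eq_zero (minpoly.degree_pos (Algebra.IsIntegral.isIntegral T)).ne'
  obtain ⟨u, hu⟩ := (Module.End.hasEigenvalue_of_isRoot hl).exists_hasEigenvector
  refine ⟨l, u, hu.2, fun h0 => hu.2 ?_, hu.apply_eq_smul⟩
  subst h0
  have hTu : T u = 0 := by rw [hu.apply_eq_smul, zero_smul]
  obtain ⟨n, hn⟩ := Nat.exists_eq_succ_of_ne_zero (show p ^ e * k ≠ 0 from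
    mul_ne_zero (pow_ne_zero _ (Fact.out (p := p.Prime)).ne_zero) fun h => hm0 (by rw [hc, h, zero_mul]))
  have := LinearMap.congr_fun hT u
  rw [hn, pow_succ, Module.End.mul_apply, hTu, map_zero, Module.End.one_apply] at this
  exact this.symm

lemma sl2_range_isPGroup_of_rep [FiniteDimensional K W] (ρ : Representation K H W) {a b : H}
    (hgen : Subgroup.closure {a, b} = ⊤) (ha : (ρ a - 1) * (ρ a - 1) = 0)
    (hb : (ρ b - 1) * (ρ b - 1) = 0) (hdim : finrank K W ≤ 2)
    (hall : ∀ φ : H →* Matrix.SpecialLinearGroup (Fin 2) K, IsPGroup p φ.range) (g : H) :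
    ∃ i : ℕ, ρ (g ^ p ^ i) = 1 := by
  rcases Nat.lt_or_ge (finrank K W) 2 with hlt | hge
  · refine ⟨0, LinearMap.ext fun x => ?_⟩
    obtain ⟨c, hc⟩ : ∃ c : K, ρ (g ^ p ^ 0) = c • LinearMap.id := by
      rcases Nat.eq_zero_or_pos (finrank K W) with h0 | h1
      · haveI := finrank_zero_iff.mp h0
        exact ⟨0, LinearMap.ext fun y => Subsingleton.elim _ _⟩
      · obtain ⟨v, hv, hspan⟩ := finrank_eq_one_iff'.mp (show finrank K W = 1 by omega)
        obtain ⟨c, hc⟩ := hspan (ρ (g ^ p ^ 0) v)
        refine ⟨c, LinearMap.ext fun y => ?_⟩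
        obtain ⟨d, rfl⟩ := hspan y
        rw [map_smul, ← hc, LinearMap.smul_apply, LinearMap.id_apply, smul_comm]
    have hdet := det_eq_one (p := p) ρ hgen ha hb (g ^ p ^ 0)
    rw [hc, LinearMap.det_smul, LinearMap.det_id, mul_one] at hdet
    rw [hc, LinearMap.smul_apply, LinearMap.id_apply, Module.End.one_apply]
    rcases Nat.eq_zero_or_pos (finrank K W) with h0 | h1
    · haveI := finrank_zero_iff.mp h0
      exact Subsingleton.elim _ _
    · rw [show finrank K W = 1 by omega, pow_one] at hdet
      rw [hdet, one_smul]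
  · let B : Basis (Fin 2) K W := finBasisOfFinrankEq K W (by omega)
    let φ : H →* Matrix.SpecialLinearGroup (Fin 2) K :=
      { toFun := fun h => ⟨LinearMap.toMatrix B B (ρ h), by
          rw [LinearMap.det_toMatrix, det_eq_one (p := p) ρ hgen ha hb h]⟩
        map_one' := Subtype.ext (by simp)
        map_mul' := fun x y => Subtype.ext (by
          show LinearMap.toMatrix B B (ρ (x * y)) =
            LinearMap.toMatrix B B (ρ x) * LinearMap.toMatrix B B (ρ y)
          rw [map_mul, LinearMap.toMatrix_mul]) }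
    obtain ⟨i, hi⟩ := hall φ ⟨φ g, MonoidHom.mem_range.mpr ⟨g, rfl⟩⟩
    refine ⟨i, (LinearMap.toMatrix B B).injective ?_⟩
    have h2 : φ (g ^ p ^ i) = 1 := by
      rw [map_pow]; exact congrArg Subtype.val hi
    rw [LinearMap.toMatrix_one]
    exact congrArg Subtype.val h2

theorem range_isPGroup [Fintype K] {a b : H} (hgen : Subgroup.closure {a, b} = ⊤) {e k : ℕ}
    (hab : (a * b) ^ (p ^ e * k) = 1) (hk : k ∣ Fintype.card K - 1)
    (hall : ∀ φ : H →* Matrix.SpecialLinearGroup (Fin 2) K, IsPGroup p φ.range) :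
    ∀ (n : ℕ) {W : Type w} [AddCommGroup W] [Module K W] [FiniteDimensional K W]
      (ρ : Representation K H W), (ρ a - 1) * (ρ a - 1) = 0 → (ρ b - 1) * (ρ b - 1) = 0 →
      finrank K W = n → ∀ g : H, ∃ i : ℕ, ρ (g ^ p ^ i) = 1 := by
  intro n
  induction n using Nat.strong_induction_on with
  | _ n ih =>
  intro W _ _ _ ρ ha hb hn g
  rcases subsingleton_or_nontrivial W with _ | _
  · exact ⟨0, LinearMap.ext fun x => Subsingleton.elim _ _⟩
  have hTpow : (ρ a * ρ b) ^ (p ^ e * k) = 1 := by rw [← map_mul, ← map_pow, hab, map_one]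
  obtain ⟨l, u, hu0, hl, hu⟩ := exists_eigen (p := p) _ hTpow hk
  have quad : ∀ c : H, (ρ c - 1) * (ρ c - 1) = 0 → ∀ x, ρ c (ρ c x) = (2 : K) • ρ c x - x := by
    intro c hc x
    have h := LinearMap.congr_fun hc x
    simp only [Module.End.mul_apply, LinearMap.sub_apply, Module.End.one_apply, map_sub,
      LinearMap.zero_apply] at h
    rw [two_smul]
    linear_combination (norm := module) h
  let U : Submodule K W := Submodule.span K {u, ρ b u}
  have hau : ρ a u = (2 : K) • u - l⁻¹ • ρ b u := by
    have h1 : ρ a (ρ b u) = l • u := hu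
    have h2 := congrArg (ρ a) h1
    rw [quad a ha, h1, map_smul] at h2
    have h3 := congrArg (fun z => l⁻¹ • z) h2
    simp only [smul_sub, smul_smul, inv_mul_cancel₀ hl, one_smul] at h3
    rw [← h3, mul_left_comm, inv_mul_cancel₀ hl, mul_one]
  have hU : ∀ g : H, ∀ x ∈ U, ρ g x ∈ U := by
    have hu_mem : u ∈ U := Submodule.subset_span (Set.mem_insert _ _)
    have hbu_mem : ρ b u ∈ U := Submodule.subset_span (Set.mem_insert_of_mem _ rfl)
    have key : ∀ c : H, ρ c u ∈ U → ρ c (ρ b u) ∈ U → ∀ x ∈ U, ρ c x ∈ U := by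
      intro c h1 h2 x hx
      obtain ⟨r, s, rfl⟩ := Submodule.mem_span_pair.mp hx
      rw [map_add, map_smul, map_smul]
      exact U.add_mem (U.smul_mem r h1) (U.smul_mem s h2)
    have hA : ∀ x ∈ U, ρ a x ∈ U := key a
      (hau ▸ U.sub_mem (U.smul_mem _ hu_mem) (U.smul_mem _ hbu_mem))
      (by rw [← Module.End.mul_apply, hu]; exact U.smul_mem _ hu_mem)
    have hB : ∀ x ∈ U, ρ b x ∈ U := key b hbu_mem
      (by rw [quad b hb]; exact U.sub_mem (U.smul_mem _ hbu_mem) hu_mem)
    intro g
    refine Subgroup.closure_induction (p := fun g _ => ∀ x ∈ U, ρ g x ∈ U) ?_ ?_ ?_ ?_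
      (hgen ▸ Subgroup.mem_top g : g ∈ Subgroup.closure {a, b})
    · rintro c (rfl | rfl)
      · exact hA
      · exact hB
    · intro x hx; rwa [map_one]
    · intro x y _ _ hx hy z hz
      rw [map_mul]
      exact hx _ (hy _ hz)
    · intro c _ hc x hx
      have hsurj : Function.Surjective ((ρ c).restrict hc) :=
        LinearMap.injective_iff_surjective.mp fun y z h => Subtype.ext (by
          have h' := congrArg (fun t => ρ c⁻¹ (Subtype.val t)) h
          simpa [← Module.End.mul_apply, ← map_mul] using h')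
      obtain ⟨⟨y, hy⟩, hy'⟩ := hsurj ⟨x, hx⟩
      have h' : ρ c y = x := congrArg Subtype.val hy'
      rwa [← h', ← Module.End.mul_apply, ← map_mul, inv_mul_cancel, map_one]
  let ρU : Representation K H U :=
    { toFun := fun g => (ρ g).restrict (hU g)
      map_one' := LinearMap.ext fun x => Subtype.ext (by simp)
      map_mul' := fun x y => LinearMap.ext fun z => Subtype.ext (by simp) }
  let ρQ : Representation K H (W ⧸ U) :=
    { toFun := fun g => U.mapQ U (ρ g) (hU g)
      map_one' := Submodule.linearMap_qext _ (LinearMap.ext fun x => by simp)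
      map_mul' := fun x y => Submodule.linearMap_qext _ (LinearMap.ext fun z => by simp) }
  have resU : ∀ c : H, (ρ c - 1) * (ρ c - 1) = 0 → (ρU c - 1) * (ρU c - 1) = 0 := fun c hc =>
    LinearMap.ext fun x => Subtype.ext (by
      simpa [ρU] using LinearMap.congr_fun hc x.1)
  have resQ : ∀ c : H, (ρ c - 1) * (ρ c - 1) = 0 → (ρQ c - 1) * (ρQ c - 1) = 0 := fun c hc =>
    Submodule.linearMap_qext _ (LinearMap.ext fun x => by
      simpa [ρQ, ← Submodule.Quotient.mk_sub] using congrArg (Submodule.Quotient.mk (p := U))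
        (LinearMap.congr_fun hc x))
  have hUdim : finrank K U ≤ 2 := by
    classical
    exact (finrank_span_le_card _).trans (by simpa using Finset.card_le_two)
  have hUpos : 0 < finrank K U := Module.finrank_pos_iff_exists_ne_zero.mpr
    ⟨⟨u, Submodule.subset_span (Set.mem_insert _ _)⟩, fun h => hu0 (congrArg Subtype.val h)⟩
  obtain ⟨i, hi⟩ := sl2_range_isPGroup_of_rep ρU hgen (resU a ha) (resU b hb) hUdim hall g
  have hlt : finrank K (W ⧸ U) < n := by
    have := U.finrank_quotient_add_finrank
    omega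
  obtain ⟨j, hj⟩ := ih _ hlt ρQ (resQ a ha) (resQ b hb) rfl g
  refine ⟨i + j + 1, ?_⟩
  have h1 : ρU (g ^ p ^ (i + j)) = 1 := by
    rw [pow_add, pow_mul, map_pow ρU, hi, one_pow]
  have h2 : ρQ (g ^ p ^ (i + j)) = 1 := by
    rw [pow_add, mul_comm, pow_mul, map_pow ρQ, hj, one_pow]
  rw [pow_succ, pow_mul, map_pow ρ]
  refine pow_prime_eq_one (LinearMap.ext fun x => ?_)
  have hx : ρ (g ^ p ^ (i + j)) x - x ∈ U := (Submodule.Quotient.eq U).mp
    (LinearMap.congr_fun h2 (Submodule.Quotient.mk x))
  have hy := congrArg Subtype.val (LinearMap.congr_fun h1 ⟨_, hx⟩)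
  simp only [Module.End.mul_apply, LinearMap.sub_apply, Module.End.one_apply,
    LinearMap.zero_apply]
  exact sub_eq_zero.mpr hy

end CfsgLib.QuadraticPair
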